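import Mathlib.AlgebraicGeometry.Morphisms.Smooth
import Mathlib.AlgebraicGeometry.Morphisms.Etale
import Mathlib.AlgebraicGeometry.AffineSpace

/-!
# Étale charts of smooth morphisms adapted to a section

Tools around `AffineSpace.homOfVector`: smoothness of affine space, étaleness of `homOfVector` in terms of rings,
translations of affine space by global sections of the base, restriction to opens.
-/

set_option autoImplicit false
universe u

open AlgebraicGeometry CategoryTheory CategoryTheory.Limits

namespace Groth.Agent.Pi1.H413.SecChart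

/-- Affine space of finite dimension is smooth over its base. -/
theorem smooth_affineSpace (n : Type u) [Finite n] (S : Scheme.{u}) :
    Smooth (𝔸(n; S) ↘ S) := by
  wlog hS : ∃ R, S = Spec R
  · refine (IsZariskiLocalAtTarget.iff_of_openCover (P := @Smooth) S.affineCover).mpr ?_
    intro i
    have := this n (S.affineCover.X i) ⟨_, rfl⟩
    rwa [← (AffineSpace.isPullback_map (n := n) (S.affineCover.f i)).isoPullback_hom_snd,
      MorphismProperty.cancel_left_of_respectsIso (P := @Smooth)] at this
  obtain ⟨R, rfl⟩ := hS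
  rw [← MorphismProperty.cancel_left_of_respectsIso (P := @Smooth)
    (AffineSpace.SpecIso n R).inv, AffineSpace.SpecIso_inv_over]
  rw [HasRingHomProperty.Spec_iff (P := @Smooth)]
  change (algebraMap R (MvPolynomial n R)).Smooth
  rw [RingHom.smooth_algebraMap]
  exact ⟨inferInstance, inferInstance⟩

/-- `homOfVector` into affine space over an affine scheme, in terms of `toSpecΓ`. -/
theorem homOfVector_isoOfIsAffine_hom {n : Type u} {V U : Scheme.{u}} [IsAffine U] (p : V ⟶ U)
    (v : n → Γ(V, ⊤)) :
    AffineSpace.homOfVector p v ≫ (AffineSpace.isoOfIsAffine n U).hom =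
      V.toSpecΓ ≫ Spec.map (CommRingCat.ofHom (MvPolynomial.eval₂Hom p.appTop.hom v)) := by
  rw [AffineSpace.isoOfIsAffine_hom, Scheme.toSpecΓ_naturality_assoc, ← Spec.map_comp]
  congr 2
  ext x
  · simp only [CommRingCat.hom_comp, CommRingCat.hom_ofHom, RingHom.comp_apply,
      MvPolynomial.coe_eval₂Hom, MvPolynomial.eval₂_C]
    rw [← RingHom.comp_apply, ← CommRingCat.hom_comp, ← Scheme.Hom.comp_appTop,
      AffineSpace.homOfVector_over]
  · simp only [CommRingCat.hom_comp, CommRingCat.hom_ofHom, RingHom.comp_apply,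
      MvPolynomial.coe_eval₂Hom, MvPolynomial.eval₂_X]
    exact AffineSpace.homOfVector_appTop_coord _ _ _

theorem etale_homOfVector_of_isAffine {n : Type u} {V U : Scheme.{u}} [IsAffine U] [IsAffine V] (p : V ⟶ U)
    (v : n → Γ(V, ⊤)) (h : (MvPolynomial.eval₂Hom p.appTop.hom v).Etale) :
    Etale (AffineSpace.homOfVector p v) := by
  rw [← MorphismProperty.cancel_right_of_respectsIso (P := @Etale) _
    (AffineSpace.isoOfIsAffine n U).hom, homOfVector_isoOfIsAffine_hom,
    MorphismProperty.cancel_left_of_respectsIso (P := @Etale), HasRingHomProperty.Spec_iff (P := @Etale)]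
  exact h

/-- Translation of affine space by global sections of the base. -/
noncomputable def trans {n : Type u} {U : Scheme.{u}} (c : n → Γ(U, ⊤)) : 𝔸(n; U) ⟶ 𝔸(n; U) :=
  AffineSpace.homOfVector (𝔸(n; U) ↘ U) (fun j => AffineSpace.coord U j + (𝔸(n; U) ↘ U).appTop (c j))

theorem homOfVector_trans {n : Type u} {V U : Scheme.{u}} (p : V ⟶ U)
    (v : n → Γ(V, ⊤)) (c : n → Γ(U, ⊤)) :
    AffineSpace.homOfVector p v ≫ trans c =
      AffineSpace.homOfVector p (fun j => v j + p.appTop (c j)) := by
  apply AffineSpace.hom_ext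
  · simp only [trans, Category.assoc, AffineSpace.homOfVector_over]
  · intro j
    rw [AffineSpace.homOfVector_appTop_coord, Scheme.Hom.comp_appTop, CommRingCat.comp_apply, trans,
      AffineSpace.homOfVector_appTop_coord, map_add, AffineSpace.homOfVector_appTop_coord]
    congr 1
    rw [← CommRingCat.comp_apply, ← Scheme.Hom.comp_appTop, AffineSpace.homOfVector_over]

theorem trans_comp {n : Type u} {U : Scheme.{u}} (c d : n → Γ(U, ⊤)) :
    trans c ≫ trans d = trans (fun j => c j + d j) := by
  conv_lhs => rw [trans, homOfVector_trans]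
  rw [trans]
  congr 1
  ext j
  rw [map_add, add_assoc]

theorem trans_zero {n : Type u} {U : Scheme.{u}} (c : n → Γ(U, ⊤)) (hc : ∀ j, c j = 0) :
    trans c = 𝟙 _ := by
  apply AffineSpace.hom_ext
  · simp [trans]
  · intro j
    rw [trans, AffineSpace.homOfVector_appTop_coord, hc, map_zero, add_zero]
    simp

instance isIso_trans {n : Type u} {U : Scheme.{u}} (c : n → Γ(U, ⊤)) : IsIso (trans c) :=
  ⟨trans (fun j => - c j), by rw [trans_comp]; exact trans_zero _ (by simp),
    by rw [trans_comp]; exact trans_zero _ (by simp)⟩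

/-- Restriction of an étale `homOfVector` to opens of source and base. -/
theorem etale_homOfVector_restrict {n : Type u} {V V' U U' : Scheme.{u}} (p : V ⟶ U) (p' : V' ⟶ U')
    (a : V' ⟶ V) (b : U' ⟶ U) [IsOpenImmersion a] [IsOpenImmersion b] (w : p' ≫ b = a ≫ p)
    (v : n → Γ(V, ⊤)) [Etale (AffineSpace.homOfVector p v)] :
    Etale (AffineSpace.homOfVector p' (a.appTop ∘ v)) := by
  have hb : IsOpenImmersion (AffineSpace.map n b) :=
    MorphismProperty.of_isPullback (P := @IsOpenImmersion) (AffineSpace.isPullback_map b).flip inferInstance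
  have h : AffineSpace.homOfVector p' (a.appTop ∘ v) ≫ AffineSpace.map n b =
      a ≫ AffineSpace.homOfVector p v := by
    rw [AffineSpace.comp_homOfVector]
    apply AffineSpace.hom_ext
    · simp [w]
    · intro i
      rw [AffineSpace.homOfVector_appTop_coord, Scheme.Hom.comp_appTop, CommRingCat.comp_apply,
        AffineSpace.map_appTop_coord, AffineSpace.homOfVector_appTop_coord]
  have h2 : Etale (AffineSpace.homOfVector p' (a.appTop ∘ v) ≫ AffineSpace.map n b) := by
    rw [h]; infer_instance
  exact Etale.of_comp _ (AffineSpace.map n b)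

/-- At a point of the smooth locus there is a standard smooth affine chart. -/
theorem exists_isStandardSmooth_of_mem_smoothLocus {X Y : Scheme.{u}} (f : X ⟶ Y)
    [LocallyOfFinitePresentation f] (x : X) (hx : x ∈ f.smoothLocus) :
    ∃ (U : Y.Opens) (_ : IsAffineOpen U) (V : X.Opens) (_ : IsAffineOpen V) (hVU : V ≤ f ⁻¹ᵁ U),
      x ∈ V ∧ (f.appLE U V hVU).hom.IsStandardSmooth := by
  let W := f.smoothLocus
  have hs : Smooth (W.ι ≫ f) := by
    rw [← Scheme.Hom.smoothLocus_eq_top_iff, ← Scheme.Hom.preimage_smoothLocus_eq]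
    simp [W]
  obtain ⟨U, hU, V, hV, hxV, e, h⟩ := Smooth.exists_isStandardSmooth (W.ι ≫ f) ⟨x, hx⟩
  have e' : W.ι ''ᵁ V ≤ f ⁻¹ᵁ U := by
    rintro _ ⟨z, hz, rfl⟩
    exact e hz
  refine ⟨U, hU, W.ι ''ᵁ V, hV.image_of_isOpenImmersion _, e', ⟨_, hxV, rfl⟩, ?_⟩
  have h1 : (W.ι ≫ f).appLE U V e = f.appLE U (W.ι ''ᵁ V) e' ≫ W.ι.appLE (W.ι ''ᵁ V) V (by simp) := by
    rw [Scheme.Hom.appLE_comp_appLE]
  have h2 : IsIso (W.ι.appLE (W.ι ''ᵁ V) V (by simp)) := by
    have : W.ι.appLE (W.ι ''ᵁ V) V (by simp) = (W.ι.appIso V).hom := by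
      rw [Scheme.Hom.appIso_hom']
    rw [this]
    infer_instance
  rw [h1] at h
  rwa [CommRingCat.hom_comp, RingHom.isStandardSmooth_respectsIso.cancel_right_isIso] at h

end Groth.Agent.Pi1.H413.SecChart
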